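import Mathlib.RingTheory.AdicCompletion.Functoriality
import Mathlib.RingTheory.AdicCompletion.Noetherian
import Mathlib.RingTheory.AdicCompletion.Completeness
import Mathlib.RingTheory.Noetherian.OfPrime
import Mathlib.RingTheory.Ideal.Oka
import Mathlib.RingTheory.Ideal.Quotient.Operations

/-!
Successive approximation in complete modules; complete rings with Noetherian reduction are
Noetherian; finite modules over complete rings.
-/

set_option autoImplicit false
set_option linter.style.haveILetI false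
set_option linter.unusedSectionVars false

namespace Groth.Agent.AdicC27

universe u v w

variable {A : Type u} [CommRing A] {I : Ideal A}

theorem smodEq_of_succ {M : Type v} [AddCommGroup M] [Module A M] (x : ℕ → M)
    (h : ∀ n, x (n + 1) - x n ∈ (I ^ n • ⊤ : Submodule A M)) {m n : ℕ} (hmn : m ≤ n) :
    x m ≡ x n [SMOD (I ^ m • ⊤ : Submodule A M)] := by
  induction n, hmn using Nat.le_induction with
  | base => rfl
  | succ n hmn ih =>
    refine ih.trans (SModEq.sub_mem.mpr ?_)
    rw [← neg_sub]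
    exact Submodule.neg_mem _ (Submodule.pow_smul_top_le I M hmn (h n))

theorem mem_range_of_approx {P : Type v} [AddCommGroup P] [Module A P] [IsPrecomplete I P]
    {M : Type w} [AddCommGroup M] [Module A M] [IsHausdorff I M] (φ : P →ₗ[A] M) (F : ℕ → Set M)
    (hF : ∀ k, F k ⊆ ((I ^ k • ⊤ : Submodule A M) : Set M))
    (step : ∀ k, ∀ y ∈ F k, ∃ z ∈ (I ^ k • ⊤ : Submodule A P), y - φ z ∈ F (k + 1))
    {y : M} (hy : y ∈ F 0) : ∃ a, φ a = y := by
  choose z hz hz' using step
  let b : (k : ℕ) → {a : P // y - φ a ∈ F k} := fun k => Nat.rec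
    (⟨0, by simpa using hy⟩)
    (fun k a => ⟨a.1 + z k (y - φ a.1) a.2, by
      rw [map_add, ← sub_sub]; exact hz' k _ a.2⟩) k
  have hb : ∀ k, (b (k + 1)).1 - (b k).1 ∈ (I ^ k • ⊤ : Submodule A P) := fun k => by
    simpa [b] using hz k _ (b k).2
  obtain ⟨a, ha⟩ := IsPrecomplete.prec (I := I) inferInstance
    (fun {m n} h => smodEq_of_succ (fun k => (b k).1) hb h)
  refine ⟨a, (sub_eq_zero.mp (IsHausdorff.haus (I := I) inferInstance (y - φ a) fun k => ?_)).symm⟩
  rw [SModEq.zero]
  have h1 := hF k (b k).2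
  have h2 : φ ((b k).1 - a) ∈ (I ^ k • ⊤ : Submodule A M) := by
    have h3 := Submodule.mem_map_of_mem (f := φ) (SModEq.sub_mem.mp (ha k))
    rw [Submodule.map_smul''] at h3
    exact Submodule.smul_mono le_rfl le_top h3
  have : y - φ a = (y - φ (b k).1) + φ ((b k).1 - a) := by rw [map_sub]; abel
  rw [this]
  exact add_mem h1 h2

theorem isPrecomplete_of_surjective {M : Type v} [AddCommGroup M] [Module A M] [IsPrecomplete I M]
    {N : Type w} [AddCommGroup N] [Module A N] (f : M →ₗ[A] N) (hf : Function.Surjective f) :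
    IsPrecomplete I N := by
  refine (AdicCompletion.of_surjective_iff (I := I) (M := N)).mp fun y => ?_
  obtain ⟨x, rfl⟩ := AdicCompletion.map_surjective I hf y
  obtain ⟨m, rfl⟩ := AdicCompletion.of_surjective I M x
  exact ⟨f m, (AdicCompletion.map_of I f m).symm⟩

instance isPrecomplete_pi [IsPrecomplete I A] (n : ℕ) : IsPrecomplete I (Fin n → A) := by
  refine ⟨fun f hf => ?_⟩
  have hc : ∀ j, ∃ l : A, ∀ k, f k j ≡ l [SMOD (I ^ k • ⊤ : Submodule A A)] := fun j =>
    IsPrecomplete.prec (I := I) inferInstance fun {m k} h => SModEq.mono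
      (by rw [Submodule.map_smul'']; exact Submodule.smul_mono le_rfl le_top)
      ((hf h).map (LinearMap.proj (φ := fun _ : Fin n => A) j))
  choose l hl using hc
  refine ⟨l, fun k => SModEq.sub_mem.mpr ?_⟩
  rw [← Finset.univ_sum_single (f k - l)]
  refine Submodule.sum_mem _ fun j _ => ?_
  have h1 : (f k - l) j ∈ (I ^ k • ⊤ : Submodule A A) := SModEq.sub_mem.mp (hl j k)
  have h2 := Submodule.mem_map_of_mem (f := LinearMap.single A (fun _ : Fin n => A) j) h1
  rw [Submodule.map_smul''] at h2
  exact Submodule.smul_mono le_rfl le_top h2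

theorem isPrecomplete_of_finite [IsPrecomplete I A] (M : Type v) [AddCommGroup M] [Module A M]
    [Module.Finite A M] : IsPrecomplete I M := by
  obtain ⟨n, f, hf⟩ := Module.Finite.exists_fin' A M
  exact isPrecomplete_of_surjective f hf

/-- A finite module over a complete Noetherian ring is complete. -/
theorem isAdicComplete_of_finite [IsNoetherianRing A] [IsAdicComplete I A] (M : Type v)
    [AddCommGroup M] [Module A M] [Module.Finite A M] : IsAdicComplete I M where
  toIsHausdorff := IsHausdorff.of_le_jacobson I M (IsAdicComplete.le_jacobson_bot I)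
  toIsPrecomplete := isPrecomplete_of_finite M

theorem exists_fg_map_eq {B : Type v} [CommRing B] (f : A →+* B) (hf : Function.Surjective f)
    {J : Ideal B} (h : J.FG) : ∃ K : Ideal A, K.FG ∧ K.map f = J := by
  obtain ⟨s, rfl⟩ := h
  choose g hg using hf
  classical
  refine ⟨Ideal.span (↑(s.image g) : Set A), ⟨_, rfl⟩, ?_⟩
  rw [Ideal.map_span, Finset.coe_image, Set.image_image]
  simp only [hg, Set.image_id']

/-- In a complete ring, an ideal that is finitely generated modulo the square is finitely generated. -/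
theorem fg_of_map_mk_sq [IsAdicComplete I A] (h : (I.map (Ideal.Quotient.mk (I ^ 2))).FG) :
    I.FG := by
  obtain ⟨K, hK, hKI⟩ := exists_fg_map_eq (Ideal.Quotient.mk (I ^ 2)) Ideal.Quotient.mk_surjective h
  have hI2 : I ^ 2 ≤ I := Ideal.pow_le_self two_ne_zero
  have h1 : K ≤ I := fun x hx => by
    have h2 : Ideal.Quotient.mk (I ^ 2) x ∈ I.map (Ideal.Quotient.mk (I ^ 2)) :=
      hKI ▸ Ideal.mem_map_of_mem _ hx
    rwa [← Ideal.mem_comap, Ideal.comap_map_mk hI2] at h2
  have h2 : I ≤ K ⊔ I ^ 2 := by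
    intro x hx
    obtain ⟨y, hy, hxy⟩ := (Ideal.mem_map_iff_of_surjective _ Ideal.Quotient.mk_surjective).mp
      (hKI.symm ▸ Ideal.mem_map_of_mem (Ideal.Quotient.mk (I ^ 2)) hx)
    exact Submodule.mem_sup.mpr ⟨y, hy, x - y, Ideal.Quotient.eq.mp hxy.symm, by ring⟩
  obtain ⟨m, g, hg⟩ := Submodule.fg_iff_exists_fin_generating_family.mp hK
  have hKeq : K = I := by
    refine le_antisymm h1 fun x hx => ?_
    let φ : (Fin m → A) →ₗ[A] A := Fintype.linearCombination A g
    obtain ⟨a, ha⟩ := mem_range_of_approx (I := I) φ (fun k => ((I ^ (k + 1) : Ideal A) : Set A))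
      (fun k => by
        rw [smul_eq_mul, Ideal.mul_top]
        exact Ideal.pow_le_pow_right k.le_succ)
      (fun k y hy => by
        have hy' : y ∈ I ^ k * K ⊔ I ^ (k + 2) := by
          rw [pow_add, ← Ideal.mul_sup]
          exact Ideal.mul_mono_right h2 (by rwa [← pow_succ])
        obtain ⟨p, hp, q, hq, rfl⟩ := Submodule.mem_sup.mp hy'
        have hp' : p ∈ (I ^ k • ⊤ : Submodule A (Fin m → A)).map φ := by
          rw [Submodule.map_smul'', Submodule.map_top]
          change p ∈ I ^ k • LinearMap.range φ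
          rw [Fintype.range_linearCombination, hg]
          exact hp
        obtain ⟨z, hz, rfl⟩ := hp'
        exact ⟨z, hz, by simpa using hq⟩)
      (y := x) (by simpa using hx)
    rw [← hg, ← Fintype.range_linearCombination A g]
    exact ⟨a, ha⟩
  rwa [← hKeq]

theorem exists_maximal_not_fg (h : ¬ IsNoetherianRing A) :
    ∃ P : Ideal A, Maximal (fun J : Ideal A => ¬ J.FG) P := by
  rw [isNoetherianRing_iff_ideal_fg] at h
  push Not at h
  obtain ⟨J₀, hJ₀⟩ := h
  have key : ∀ C : Set (Ideal A), C ⊆ {J : Ideal A | ¬ J.FG} → IsChain (· ≤ ·) C →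
      ∀ I ∈ C, ∃ ub ∈ {J : Ideal A | ¬ J.FG}, ∀ z ∈ C, z ≤ ub := by
    intro C hC₁ hC₂ I hI
    refine ⟨sSup C, fun hfg => ?_, fun z hz => le_sSup hz⟩
    obtain ⟨J, hJC, hle⟩ := (Submodule.fg_iff_compact (sSup C)).mp hfg C (sSup C)
      ⟨I, hI⟩ hC₂.directedOn (isLUB_sSup C) le_rfl
    exact hC₁ hJC ((le_antisymm hle (le_sSup hJC)) ▸ hfg)
  obtain ⟨P, -, hP⟩ := zorn_le_nonempty₀ _ key J₀ hJ₀
  exact ⟨P, hP⟩

/-- A ring complete along a finitely generated ideal with Noetherian quotient is Noetherian. -/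
theorem isNoetherianRing_of_isAdicComplete [IsAdicComplete I A] (hI : I.FG)
    [IsNoetherianRing (A ⧸ I)] : IsNoetherianRing A := by
  by_contra h
  obtain ⟨P, hP⟩ := exists_maximal_not_fg h
  have hprime : P.IsPrime := Ideal.isOka_fg.isPrime_of_maximal_not hP
  by_cases hle : I ≤ P
  · obtain ⟨K, hK, hKP⟩ := exists_fg_map_eq (Ideal.Quotient.mk I) Ideal.Quotient.mk_surjective
      (IsNoetherian.noetherian (P.map (Ideal.Quotient.mk I)))
    refine hP.1 ?_
    suffices P = K ⊔ I by rw [this]; exact Submodule.FG.sup hK hI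
    rw [← Ideal.comap_map_mk hle, ← hKP,
      Ideal.comap_map_of_surjective' _ Ideal.Quotient.mk_surjective, Ideal.mk_ker]
  · obtain ⟨t, htI, htP⟩ := SetLike.not_le_iff_exists.mp hle
    have hfg : (P ⊔ Ideal.span {t}).FG := by
      by_contra hn
      exact htP (hP.2 hn le_sup_left (Ideal.mem_sup_right (Ideal.mem_span_singleton_self t)))
    obtain ⟨s, hs⟩ := hfg
    have hdec : ∀ x : {x // x ∈ s}, ∃ b ∈ P, ∃ a, (x : A) = b + a * t := fun x => by
      obtain ⟨b, hb, c, hc, hbc⟩ := Submodule.mem_sup.mp (hs ▸ Ideal.subset_span x.2 : (x : A) ∈ P ⊔ Ideal.span {t})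
      obtain ⟨a, rfl⟩ := Ideal.mem_span_singleton'.mp hc
      exact ⟨b, hb, a, hbc.symm⟩
    choose b hb c hc using hdec
    classical
    let e := Fintype.equivFin {x // x ∈ s}
    set B := Ideal.span (Set.range b) with hB
    have hBP : B ≤ P := Ideal.span_le.mpr (by rintro - ⟨x, rfl⟩; exact hb x)
    have hsup : P ≤ B ⊔ Ideal.span {t} := le_sup_left.trans <| hs.ge.trans <| Ideal.span_le.mpr
      fun x hx => by
        rw [SetLike.mem_coe, show x = b ⟨x, hx⟩ + c ⟨x, hx⟩ * t from hc ⟨x, hx⟩]
        exact add_mem (Ideal.mem_sup_left (Ideal.subset_span ⟨_, rfl⟩))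
          (Ideal.mem_sup_right (Ideal.mul_mem_left _ _ (Ideal.mem_span_singleton_self t)))
    refine hP.1 ?_
    suffices P = B by rw [this]; exact Submodule.fg_span (Set.finite_range b)
    refine le_antisymm (fun x hx => ?_) hBP
    let φ : (Fin (Fintype.card {x // x ∈ s}) → A) →ₗ[A] A :=
      Fintype.linearCombination A (b ∘ e.symm)
    have hrange : LinearMap.range φ = B := by
      rw [Fintype.range_linearCombination, EquivLike.range_comp]
    obtain ⟨a, ha⟩ := mem_range_of_approx (I := I) φ (fun k => (t ^ k * ·) '' (P : Set A))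
      (fun k => by
        rintro - ⟨q, -, rfl⟩
        rw [smul_eq_mul, Ideal.mul_top]
        exact Ideal.mul_mem_right _ _ (Ideal.pow_mem_pow htI k))
      (fun k y hy => by
        obtain ⟨q, hq, rfl⟩ := hy
        obtain ⟨p, hp, d, hd, rfl⟩ := Submodule.mem_sup.mp (hsup hq)
        obtain ⟨a, rfl⟩ := Ideal.mem_span_singleton'.mp hd
        obtain ⟨z, rfl⟩ : p ∈ LinearMap.range φ := hrange ▸ hp
        refine ⟨t ^ k • z, Submodule.smul_mem_smul (Ideal.pow_mem_pow htI k) trivial, a, ?_, ?_⟩
        · have : a * t ∈ P := (P.add_mem_iff_right (hBP hp)).mp hq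
          exact (hprime.mem_or_mem this).resolve_right htP
        · simp only [map_smul, smul_eq_mul]; ring)
      (y := x) ⟨x, hx, by simp⟩
    exact hrange ▸ ⟨a, ha⟩

/-- A ring complete along `I` with Noetherian quotient by the square of `I` is Noetherian. -/
theorem isNoetherianRing_of_quotient_sq [IsAdicComplete I A] [IsNoetherianRing (A ⧸ I ^ 2)] :
    IsNoetherianRing A := by
  haveI : IsNoetherianRing (A ⧸ I) := isNoetherianRing_of_surjective (A ⧸ I ^ 2) (A ⧸ I)
    (Ideal.Quotient.factor (Ideal.pow_le_self two_ne_zero)) (Ideal.Quotient.factor_surjective _)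
  exact isNoetherianRing_of_isAdicComplete (I := I) (fg_of_map_mk_sq (IsNoetherian.noetherian _))

end Groth.Agent.AdicC27
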