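import Groth.Agent.AdicC27.Approx
import Mathlib.RingTheory.Finiteness.Ideal

/-!
Inverse limits of systems `M_n` with surjective transition maps of kernel `I^(n+1) M_(n+1)`.
-/

set_option autoImplicit false
set_option linter.style.haveILetI false
set_option linter.unusedSectionVars false

namespace Groth.Agent.AdicC27

universe u v w

section Down

variable {A : Type u} [CommRing A] {M : ℕ → Type v} [∀ n, AddCommGroup (M n)] [∀ n, Module A (M n)]
  (f : ∀ n, M (n + 1) →ₗ[A] M n)

/-- The composite transition map `M N → M m`. -/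
def down {m N : ℕ} (h : m ≤ N) : M N →ₗ[A] M m :=
  Nat.decreasingInduction (motive := fun k _ => M N →ₗ[A] M k) (fun k _ g => f k ∘ₗ g) LinearMap.id h

theorem down_self (N : ℕ) : down f (le_refl N) = LinearMap.id :=
  Nat.decreasingInduction_self ..

theorem down_succ_left {m N : ℕ} (h : m + 1 ≤ N) :
    down f (Nat.le_of_succ_le h) = f m ∘ₗ down f h :=
  Nat.decreasingInduction_succ_left _ _ h _

theorem down_succ_right {m N : ℕ} (h : m ≤ N) :
    down f (h.trans N.le_succ) = down f h ∘ₗ f N := by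
  induction h using Nat.decreasingInduction with
  | self =>
    rw [down_self, LinearMap.id_comp, down_succ_left f (le_refl (N + 1)), down_self, LinearMap.comp_id]
  | of_succ k hk ih =>
    rw [down_succ_left f (Nat.le_succ_of_le hk), ih, down_succ_left f hk, LinearMap.comp_assoc]

theorem limit_proj_surjective (hf : ∀ n, Function.Surjective (f n)) {L : Type w} (π : ∀ n, L → M n)
    (hlift : ∀ y : (∀ n, M n), (∀ n, f n (y (n + 1)) = y n) → ∃ x : L, ∀ n, π n x = y n)
    (n : ℕ) : Function.Surjective (π n) := by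
  intro y
  let g : (k : ℕ) → M (n + k) := fun k => Nat.rec (motive := fun k => M (n + k)) y
    (fun k v => (hf (n + k) v).choose) k
  have hg : ∀ k, f (n + k) (g (k + 1)) = g k := fun k => (hf (n + k) (g k)).choose_spec
  obtain ⟨x, hx⟩ := hlift (fun m => down f (Nat.le_add_left m n) (g m)) fun m => by
    change (f m ∘ₗ down f (Nat.le_add_left (m + 1) n)) (g (m + 1)) = _
    rw [← down_succ_left]
    change down f ((Nat.le_add_left m n).trans (n + m).le_succ) (g (m + 1)) = _
    rw [down_succ_right, LinearMap.comp_apply, hg]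
  refine ⟨x, (hx n).trans ?_⟩
  have : ∀ k, down f (Nat.le_add_right n k) (g k) = y := by
    intro k
    induction k with
    | zero => exact LinearMap.congr_fun (down_self f n) y
    | succ k ih =>
      change down f ((Nat.le_add_right n k).trans (n + k).le_succ) (g (k + 1)) = _
      rw [down_succ_right, LinearMap.comp_apply, hg]
      exact ih
  exact this n

end Down

variable {A : Type u} [CommRing A] {I : Ideal A}

/-- An inverse system of modules with surjective transition maps of kernel `I^(n+1) M_(n+1)`,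
together with a limit. -/
structure LimSys (I : Ideal A) (M : ℕ → Type v) [∀ n, AddCommGroup (M n)] [∀ n, Module A (M n)]
    (L : Type v) [AddCommGroup L] [Module A L] where
  f : ∀ n, M (n + 1) →ₗ[A] M n
  surj : ∀ n, Function.Surjective (f n)
  ker : ∀ n, LinearMap.ker (f n) = I ^ (n + 1) • (⊤ : Submodule A (M (n + 1)))
  π : ∀ n, L →ₗ[A] M n
  comp : ∀ n, f n ∘ₗ π (n + 1) = π n
  inj : ∀ x : L, (∀ n, π n x = 0) → x = 0
  lift : ∀ y : (∀ n, M n), (∀ n, f n (y (n + 1)) = y n) → ∃ x : L, ∀ n, π n x = y n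

namespace LimSys

variable {M : ℕ → Type v} [∀ n, AddCommGroup (M n)] [∀ n, Module A (M n)]
  {L : Type v} [AddCommGroup L] [Module A L] (S : LimSys I M L)

theorem comp_apply (n : ℕ) (x : L) : S.f n (S.π (n + 1) x) = S.π n x :=
  LinearMap.congr_fun (S.comp n) x

theorem π_eq_of_le {x y : L} {m n : ℕ} (hmn : m ≤ n) (h : S.π n x = S.π n y) :
    S.π m x = S.π m y := by
  induction n, hmn using Nat.le_induction with
  | base => exact h
  | succ n _ ih => exact ih (by rw [← S.comp_apply, h, S.comp_apply])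

include S in
theorem pow_smul_eq_bot (n : ℕ) : I ^ (n + 1) • (⊤ : Submodule A (M n)) = ⊥ := by
  rw [← LinearMap.range_eq_top.mpr (S.surj n), LinearMap.range_eq_map, ← Submodule.map_smul'',
    ← S.ker n, eq_bot_iff, Submodule.map_le_iff_le_comap, ← LinearMap.ker]

theorem π_surjective (n : ℕ) : Function.Surjective (S.π n) :=
  limit_proj_surjective S.f S.surj (fun n => S.π n) S.lift n

theorem pow_smul_le_ker (n : ℕ) : I ^ (n + 1) • (⊤ : Submodule A L) ≤ LinearMap.ker (S.π n) := by
  rw [← Submodule.comap_bot, ← Submodule.map_le_iff_le_comap, Submodule.map_smul'',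
    ← S.pow_smul_eq_bot n]
  exact Submodule.smul_mono le_rfl le_top

theorem eq_of_forall {x y : L} (h : ∀ n, S.π n x = S.π n y) : x = y :=
  sub_eq_zero.mp (S.inj _ fun n => by rw [map_sub, h, sub_self])

theorem isHausdorff (S : LimSys I M L) : IsHausdorff I L := ⟨fun x hx =>
  S.inj x fun n => S.pow_smul_le_ker n (SModEq.zero.mp (hx (n + 1)))⟩

theorem ker_π_le_map {P : Type w} [AddCommGroup P] [Module A P] [IsPrecomplete I P] (φ : P →ₗ[A] L)
    (hφ : ∀ n, Function.Surjective (S.π n ∘ₗ φ)) (n : ℕ) :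
    LinearMap.ker (S.π n) ≤ (I ^ (n + 1) • (⊤ : Submodule A P)).map φ := by
  intro x hx
  have step : ∀ k (y : L), S.π (n + k) y = 0 →
      ∃ z ∈ (I ^ (n + k + 1) • ⊤ : Submodule A P), S.π (n + k + 1) (y - φ z) = 0 := by
    intro k y hy
    have h1 : S.π (n + k + 1) y ∈ LinearMap.ker (S.f (n + k)) := (S.comp_apply _ y).trans hy
    rw [S.ker, ← LinearMap.range_eq_top.mpr (hφ (n + k + 1)), LinearMap.range_eq_map,
      ← Submodule.map_smul''] at h1
    obtain ⟨z, hz, hzy⟩ := h1
    exact ⟨z, hz, by rw [map_sub, ← hzy, LinearMap.comp_apply, sub_self]⟩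
  choose z hz hz' using step
  let b : (k : ℕ) → {a : P // S.π (n + k) (x - φ a) = 0} := fun k => Nat.rec
    (motive := fun k => {a : P // S.π (n + k) (x - φ a) = 0})
    (⟨0, by simpa using hx⟩)
    (fun k a => ⟨a.1 + z k (x - φ a.1) a.2, by
      rw [map_add, ← sub_sub]; exact hz' k _ a.2⟩) k
  have hb : ∀ k, (b (k + 1)).1 - (b k).1 ∈ (I ^ (n + k + 1) • ⊤ : Submodule A P) := fun k => by
    simpa [b] using hz k _ (b k).2
  have hbn : ∀ k, (b k).1 ∈ (I ^ (n + 1) • ⊤ : Submodule A P) := fun k => by
    induction k with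
    | zero => simp [b]
    | succ k ih =>
      simpa using add_mem ih (Submodule.pow_smul_top_le I P (by omega : n + 1 ≤ n + k + 1) (hb k))
  obtain ⟨a, ha⟩ := IsPrecomplete.prec (I := I) inferInstance (fun {i j} h => smodEq_of_succ
    (fun k => (b k).1) (fun k => Submodule.pow_smul_top_le I P (by omega : k ≤ n + k + 1) (hb k)) h)
  refine ⟨a, ?_, S.eq_of_forall fun j => ?_⟩
  · simpa using sub_mem (hbn (n + 1)) (SModEq.sub_mem.mp (ha (n + 1)))
  · have h1 : S.π j x = S.π j (φ (b (j + 1)).1) :=
      S.π_eq_of_le (by omega : j ≤ n + (j + 1)) (sub_eq_zero.mp (by rw [← map_sub]; exact (b (j + 1)).2))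
    have h2 := Submodule.mem_map_of_mem (f := φ) (SModEq.sub_mem.mp (ha (j + 1)))
    rw [Submodule.map_smul''] at h2
    have h3 : S.π j (φ ((b (j + 1)).1 - a)) = 0 :=
      S.pow_smul_le_ker j (Submodule.smul_mono le_rfl le_top h2)
    rw [map_sub, map_sub, sub_eq_zero] at h3
    rw [h1, h3]

theorem ker_π_of_precomplete {P : Type w} [AddCommGroup P] [Module A P] [IsPrecomplete I P]
    (φ : P →ₗ[A] L) (hφ : ∀ n, Function.Surjective (S.π n ∘ₗ φ)) (n : ℕ) :
    LinearMap.ker (S.π n) = I ^ (n + 1) • (⊤ : Submodule A L) := by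
  refine le_antisymm ((S.ker_π_le_map φ hφ n).trans ?_) (S.pow_smul_le_ker n)
  rw [Submodule.map_smul'']
  exact Submodule.smul_mono le_rfl le_top

theorem isAdicComplete_of_ker
    (h : ∀ n, LinearMap.ker (S.π n) = I ^ (n + 1) • (⊤ : Submodule A L)) : IsAdicComplete I L := by
  haveI := S.isHausdorff
  refine { haus' := this.haus', prec' := fun g hg => ?_ }
  have hg' : ∀ {m k}, m + 1 ≤ k → S.π m (g (m + 1)) = S.π m (g k) := fun {m k} hk => by
    have := S.pow_smul_le_ker m (SModEq.sub_mem.mp (hg hk))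
    rwa [LinearMap.mem_ker, map_sub, sub_eq_zero] at this
  obtain ⟨x, hx⟩ := S.lift (fun m => S.π m (g (m + 1))) fun m => by
    rw [S.comp_apply, ← hg' (by omega : m + 1 ≤ m + 1 + 1)]
  refine ⟨x, fun m => ?_⟩
  cases m with
  | zero => simp [SModEq.sub_mem]
  | succ m => rw [SModEq.sub_mem, ← h, LinearMap.mem_ker, map_sub, hx, sub_self]

theorem comp_surjective {P : Type w} [AddCommGroup P] [Module A P] (φ : P →ₗ[A] L)
    (h0 : Function.Surjective (S.π 0 ∘ₗ φ)) (n : ℕ) : Function.Surjective (S.π n ∘ₗ φ) := by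
  induction n with
  | zero => exact h0
  | succ n ih =>
    rw [← LinearMap.range_eq_top] at ih ⊢
    set R := LinearMap.range (S.π (n + 1) ∘ₗ φ) with hR
    have hsup : R ⊔ LinearMap.ker (S.f n) = ⊤ := by
      rw [← Submodule.comap_map_eq, hR, ← LinearMap.range_comp, ← LinearMap.comp_assoc, S.comp, ih,
        Submodule.comap_top]
    rw [S.ker] at hsup
    refine eq_top_iff.mpr (hsup.symm.le.trans (sup_le le_rfl ?_))
    conv_lhs => rw [← hsup, Submodule.smul_sup, ← Submodule.mul_smul, ← pow_add]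
    refine sup_le Submodule.smul_le_right (le_trans ?_ bot_le)
    rw [← S.pow_smul_eq_bot (n + 1)]
    exact Submodule.pow_smul_top_le I _ (by omega)

theorem exists_surjective_of_finite_zero [IsPrecomplete I A] (h0 : Module.Finite A (M 0)) :
    ∃ (m : ℕ) (φ : (Fin m → A) →ₗ[A] L), Function.Surjective φ ∧
      ∀ n, Function.Surjective (S.π n ∘ₗ φ) := by
  obtain ⟨m, g, hg⟩ := Module.Finite.exists_fin' A (M 0)
  choose e he using fun i => S.π_surjective 0 (g (Pi.single i 1))
  have h0' : S.π 0 ∘ₗ Fintype.linearCombination A e = g := by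
    refine (Pi.basisFun A (Fin m)).ext fun i => ?_
    simp [he]
  have hs := S.comp_surjective (Fintype.linearCombination A e) (by rw [h0']; exact hg)
  refine ⟨m, Fintype.linearCombination A e, fun x => ?_, hs⟩
  obtain ⟨a, ha⟩ := hs 0 (S.π 0 x)
  rw [LinearMap.comp_apply] at ha
  obtain ⟨b, -, hb⟩ := S.ker_π_le_map _ hs 0 (x := x - Fintype.linearCombination A e a)
    (by rw [LinearMap.mem_ker, map_sub, ha, sub_self])
  exact ⟨b + a, by rw [map_add, hb, sub_add_cancel]⟩

/-- Over a complete ring: the limit is finite and complete when `M_0` is finite. -/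
theorem finite_and_isAdicComplete [IsPrecomplete I A] (h0 : Module.Finite A (M 0)) :
    Module.Finite A L ∧ IsAdicComplete I L ∧
      ∀ n, LinearMap.ker (S.π n) = I ^ (n + 1) • (⊤ : Submodule A L) := by
  obtain ⟨m, φ, hsurj, hφ⟩ := S.exists_surjective_of_finite_zero h0
  have hk := S.ker_π_of_precomplete φ hφ
  exact ⟨Module.Finite.of_surjective φ hsurj, S.isAdicComplete_of_ker hk, hk⟩

theorem exists_fromCompletion : ∃ θ : AdicCompletion I L →ₗ[A] L, ∀ n x,
    S.π n (θ (AdicCompletion.of I L x)) = S.π n x := by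
  have hex : ∀ ξ : AdicCompletion I L, ∃ x : L, ∀ n,
      S.π n x = Submodule.liftQ _ (S.π n) (S.pow_smul_le_ker n) (AdicCompletion.eval I L (n + 1) ξ) :=
    fun ξ => by
      obtain ⟨c, rfl⟩ := AdicCompletion.mk_surjective I L ξ
      refine S.lift _ fun n => ?_
      simp only [AdicCompletion.mk_apply_coe, AdicCompletion.coe_eval, Submodule.mkQ_apply,
        Submodule.liftQ_apply]
      rw [S.comp_apply]
      have := S.pow_smul_le_ker n (SModEq.sub_mem.mp (c.2 (n + 1).le_succ))
      rw [LinearMap.mem_ker, map_sub, sub_eq_zero] at this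
      exact this.symm
  choose θ hθ using hex
  refine ⟨{ toFun := θ
            map_add' := fun a b => S.eq_of_forall fun n => by
              rw [map_add, hθ, hθ, hθ, map_add, map_add]
            map_smul' := fun c a => S.eq_of_forall fun n => by
              rw [RingHom.id_apply, map_smul, hθ, hθ, map_smul, map_smul] }, fun n x => ?_⟩
  exact (hθ _ n).trans (by simp)

/-- For a finitely generated ideal the limit is complete. -/
theorem ker_π_and_isAdicComplete (hI : I.FG) :
    IsAdicComplete I L ∧ ∀ n, LinearMap.ker (S.π n) = I ^ (n + 1) • (⊤ : Submodule A L) := by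
  haveI := AdicCompletion.isAdicComplete (I := I) (M := L) hI
  obtain ⟨θ, hθ⟩ := S.exists_fromCompletion
  have hk := S.ker_π_of_precomplete θ fun n y => by
    obtain ⟨x, rfl⟩ := S.π_surjective n y
    exact ⟨AdicCompletion.of I L x, hθ n x⟩
  exact ⟨S.isAdicComplete_of_ker hk, hk⟩

end LimSys

end Groth.Agent.AdicC27
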