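import Groth.Agent.AdicC27.Limit

/-!
Limits of inverse systems of rings `B_n` with kernels the powers of those of the maps to `B_0`.
-/

set_option autoImplicit false
set_option linter.style.haveILetI false
set_option linter.unusedSectionVars false

namespace Groth.Agent.AdicC27

universe u

theorem pow_smul_top_eq_restrictScalars {A B : Type u} [CommRing A] [CommRing B] [Algebra A B]
    (J : Ideal A) (k : ℕ) :
    (J ^ k • ⊤ : Submodule A B) = Submodule.restrictScalars A ((J.map (algebraMap A B)) ^ k) := by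
  rw [Ideal.smul_top_eq_map, Ideal.map_pow]

theorem le_of_le_sup_mul {R : Type u} [CommRing R] {J K : Ideal R} (h : K ≤ J ⊔ K * K) {N : ℕ}
    (hN : K ^ N = ⊥) : K ≤ J := by
  have : ∀ k, K ≤ J ⊔ K ^ (k + 1) := fun k => by
    induction k with
    | zero => simp
    | succ k ih =>
      refine h.trans (sup_le le_sup_left ((Ideal.mul_mono_left ih).trans ?_))
      rw [Ideal.sup_mul, ← pow_succ]
      exact sup_le_sup_right Ideal.mul_le_left _
  refine (this N).trans (sup_le le_rfl ?_)
  exact (Ideal.pow_le_pow_right N.le_succ).trans (hN ▸ bot_le)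

/-- The limit of a thickening system is complete, with the expected kernels. -/
theorem thickening_limit
    (B : ℕ → Type u) [∀ n, CommRing (B n)]
    (u : ∀ n, B (n + 1) →+* B n) (hu : ∀ n, Function.Surjective (u n))
    (v : ∀ n, B n →+* B 0) (hv0 : v 0 = RingHom.id (B 0)) (hv : ∀ n, (v n).comp (u n) = v (n + 1))
    (hker : ∀ n, RingHom.ker (u n) = RingHom.ker (v (n + 1)) ^ (n + 1))
    (hfg : (RingHom.ker (v 1)).FG)
    (A : Type u) [CommRing A] (p : ∀ n, A →+* B n)
    (hp : ∀ n, (u n).comp (p (n + 1)) = p n)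
    (hinj : ∀ x : A, (∀ n, p n x = 0) → x = 0)
    (hlift : ∀ y : (∀ n, B n), (∀ n, u n (y (n + 1)) = y n) → ∃ x : A, ∀ n, p n x = y n) :
    IsAdicComplete (RingHom.ker (p 0)) A ∧
      (∀ n, Function.Surjective (p n) ∧ RingHom.ker (p n) = RingHom.ker (p 0) ^ (n + 1)) ∧
      (RingHom.ker (p 0)).FG := by
  letI := fun n => (p n).toAlgebra
  let f : ∀ n, B (n + 1) →ₗ[A] B n := fun n =>
    { toFun := u n
      map_add' := map_add _
      map_smul' := fun a x => by
        change u n (p (n + 1) a * x) = p n a * u n x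
        rw [map_mul, ← hp n]; rfl }
  have hps : ∀ n, Function.Surjective (p n) :=
    limit_proj_surjective f hu (fun n => p n) hlift
  obtain ⟨J, hJ, hJ1⟩ := exists_fg_map_eq (p 1) (hps 1) hfg
  have hv01 : (v 0).comp (u 0) = v 1 := hv 0
  have hu0 : ∀ n, RingHom.ker (v (n + 1)) ≤ (RingHom.ker (v n)).comap (u n) := fun n => by
    rw [← hv n, ← RingHom.comap_ker]
  have humap : ∀ n, (RingHom.ker (v (n + 1))).map (u n) = RingHom.ker (v n) := fun n => by
    rw [← hv n, ← RingHom.comap_ker, Ideal.map_comap_of_surjective _ (hu n)]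
  have hnil : ∀ n, RingHom.ker (v n) ^ (n + 1) = ⊥ := fun n => by
    rw [← humap n, ← Ideal.map_pow, ← hker n, eq_bot_iff, Ideal.map_le_iff_le_comap,
      ← RingHom.ker_eq_comap_bot]
  have hJB : ∀ n, J.map (p n) = RingHom.ker (v n) := by
    intro n
    induction n with
    | zero => rw [← hp 0, ← Ideal.map_map, hJ1, humap 0]
    | succ n ih =>
      rcases Nat.eq_zero_or_pos n with rfl | hn
      · exact hJ1
      have hle : J.map (p (n + 1)) ≤ RingHom.ker (v (n + 1)) := by
        rw [← hv n, ← RingHom.comap_ker, ← Ideal.map_le_iff_le_comap, Ideal.map_map, hp, ih]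
      refine le_antisymm hle (le_of_le_sup_mul ?_ (hnil (n + 1)))
      calc RingHom.ker (v (n + 1)) ≤ (RingHom.ker (v n)).comap (u n) := hu0 n
        _ = ((J.map (p (n + 1))).map (u n)).comap (u n) := by rw [Ideal.map_map, hp, ih]
        _ = J.map (p (n + 1)) ⊔ RingHom.ker (u n) := Ideal.comap_map_of_surjective' _ (hu n) _
        _ ≤ J.map (p (n + 1)) ⊔ RingHom.ker (v (n + 1)) * RingHom.ker (v (n + 1)) := by
          refine sup_le_sup_left ?_ _
          rw [hker, ← sq]
          exact Ideal.pow_le_pow_right (by omega)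
  let S : LimSys J B A :=
    { f := f
      surj := hu
      ker := fun n => by
        rw [pow_smul_top_eq_restrictScalars]
        change _ = Submodule.restrictScalars A ((J.map (p (n + 1))) ^ (n + 1))
        rw [hJB, ← hker]
        rfl
      π := fun n => Algebra.linearMap A (B n)
      comp := fun n => LinearMap.ext fun x => RingHom.congr_fun (hp n) x
      inj := hinj
      lift := hlift }
  obtain ⟨hC, hk⟩ := S.ker_π_and_isAdicComplete hJ
  have hk' : ∀ n, RingHom.ker (p n) = J ^ (n + 1) := fun n => by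
    have := hk n
    rw [smul_eq_mul, Ideal.mul_top] at this
    exact this
  have hI : RingHom.ker (p 0) = J := by rw [hk' 0, pow_one]
  rw [hI]
  exact ⟨hC, fun n => ⟨hps n, hk' n⟩, hJ⟩

end Groth.Agent.AdicC27
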